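import Groth.Agent.Thicken.Hom
import Groth.Agent.IdealStalkLib.Comap
import Mathlib.AlgebraicGeometry.Morphisms.ClosedImmersion
/-!
Closed immersions out of a square-zero thickening.
-/

set_option autoImplicit false
set_option backward.isDefEq.respectTransparency false

universe u

open CategoryTheory CategoryTheory.Limits AlgebraicGeometry

noncomputable section

namespace Groth.Agent.RibbonLib

theorem surjective_of_ker_sq {D C : Scheme.{u}} (i : D ⟶ C) [IsClosedImmersion i] (h : i.ker ^ 2 = ⊥) :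
    Surjective i := by
  refine ⟨fun x => ?_⟩
  have h1 : (i.ker.support : Set C) = Set.univ := by
    rw [← Scheme.IdealSheafData.support_pow i.ker 2 two_ne_zero, h, Scheme.IdealSheafData.support_bot]
    rfl
  rw [Scheme.Hom.support_ker, i.isClosedEmbedding.isClosed_range.closure_eq] at h1
  exact h1.symm.le (Set.mem_univ x)

theorem isClosedImmersion_iff {D C X : Scheme.{u}} (i : D ⟶ C) [IsClosedImmersion i] (h : i.ker ^ 2 = ⊥)
    (f : C ⟶ X) :
    IsClosedImmersion f ↔ (IsClosedImmersion (i ≫ f) ∧ (i ≫ f).ker.comap f = i.ker) := by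
  have key : ∀ (V : X.Opens) (hV : IsAffineOpen V) (hU : IsAffineOpen (f ⁻¹ᵁ V)) [IsClosedImmersion (i ≫ f)],
      ((i ≫ f).ker.comap f).ideal ⟨f ⁻¹ᵁ V, hU⟩ =
          ((RingHom.ker (i.app (f ⁻¹ᵁ V)).hom).comap (f.app V).hom).map (f.app V).hom := by
    intro V hV hU _
    rw [IdealStalkLib.comap_ideal _ f hV hU le_rfl, Scheme.Hom.ker_apply, RingHom.comap_ker,
      ← CommRingCat.hom_comp, ← Scheme.Hom.app_eq_appLE]
    rfl
  constructor
  · intro hf
    haveI : IsClosedImmersion (i ≫ f) := inferInstance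
    refine ⟨inferInstance, ?_⟩
    refine Scheme.IdealSheafData.ext_of_iSup_eq_top (fun V : X.affineOpens =>
      ⟨f ⁻¹ᵁ V.1, V.2.preimage f⟩) (by
        rw [← Scheme.Hom.preimage_iSup, iSup_affineOpens_eq_top X, Scheme.Hom.preimage_top]) fun V => ?_
    rw [key V.1 V.2, Scheme.Hom.ker_apply]
    exact Ideal.map_comap_of_surjective _ (f.app_surjective V.1 V.2) _
  · rintro ⟨hc, he⟩
    haveI := hc
    haveI := surjective_of_ker_sq i h
    haveI : IsAffineHom f :=
      (Thicken.isAffineHom_iff_of_thickening i (𝟙 X) (i ≫ f) f (Category.comp_id _).symm).1 inferInstance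
    refine isClosedImmersion_iff_isAffineHom.2 ⟨inferInstance, fun V hV a => ?_⟩
    let φ := (f.app V).hom
    let K : Ideal Γ(C, f ⁻¹ᵁ V) := RingHom.ker (i.app (f ⁻¹ᵁ V)).hom
    have hK : (K.comap φ).map φ = K := by
      have h' := key V hV (hV.preimage f)
      rw [he, Scheme.Hom.ker_apply] at h'
      exact h'.symm
    have hK2 : ∀ x ∈ K, ∀ y ∈ K, x * y = 0 := fun x hx y hy => by
      have h2 := congrArg (fun I : C.IdealSheafData => I.ideal ⟨f ⁻¹ᵁ V, hV.preimage f⟩) h
      simp only [Scheme.IdealSheafData.ideal_pow, Pi.pow_apply, Scheme.IdealSheafData.ideal_bot, Pi.bot_apply,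
        Scheme.Hom.ker_apply] at h2
      have : x * y ∈ K ^ 2 := by rw [sq]; exact Ideal.mul_mem_mul hx hy
      exact Ideal.mem_bot.1 (h2.le this)
    have hmod : ∀ b : Γ(C, f ⁻¹ᵁ V), ∃ r, b - φ r ∈ K := fun b => by
      obtain ⟨r, hr⟩ := (i ≫ f).app_surjective V hV ((i.app (f ⁻¹ᵁ V)).hom b)
      refine ⟨r, ?_⟩
      rw [RingHom.mem_ker, map_sub, sub_eq_zero, ← hr]
      rfl
    have hsub : ∀ x ∈ (K.comap φ).map φ, ∃ r, φ r = x := by
      intro x hx
      induction hx using Submodule.span_induction with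
      | mem z hz =>
        obtain ⟨j, -, rfl⟩ := hz
        exact ⟨j, rfl⟩
      | zero => exact ⟨0, map_zero _⟩
      | add p q _ _ hp hq =>
        obtain ⟨r, rfl⟩ := hp
        obtain ⟨r', rfl⟩ := hq
        exact ⟨r + r', map_add _ _ _⟩
      | smul c z hz hr =>
        obtain ⟨r, rfl⟩ := hr
        obtain ⟨r', hr'⟩ := hmod c
        refine ⟨r' * r, ?_⟩
        have h0 := hK2 _ hr' _ (hK.le hz)
        rw [sub_mul, sub_eq_zero] at h0
        rw [map_mul, smul_eq_mul, h0]
    obtain ⟨r, hr⟩ := hmod a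
    obtain ⟨r', hr'⟩ := hsub _ (hK.ge hr)
    exact ⟨r + r', show φ (r + r') = a by rw [map_add, hr']; ring⟩

end Groth.Agent.RibbonLib
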